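import Mathlib.Topology.Sober
import Mathlib.Topology.NoetherianSpace
import Mathlib.Topology.Connected.Basic
import Mathlib.Topology.Inseparable

/-! Generalizing maps and irreducible components. -/

set_option autoImplicit false

open Set Topology TopologicalSpace

namespace Groth.Agent.FDescent

universe u v

variable {X : Type u} {Y : Type v} [TopologicalSpace X] [TopologicalSpace Y]

/-- a point whose closure is a component has no proper generalization -/
lemma eq_of_specializes_of_mem [T0Space X] {T : Set X} (hT : T ∈ irreducibleComponents X) {ξ y : X}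
    (hξ : IsGenericPoint ξ T) (hy : y ⤳ ξ) : y = ξ := by
  have hsub : T ⊆ closure {y} :=
    hξ.def ▸ closure_minimal (singleton_subset_iff.mpr hy.mem_closure) isClosed_closure
  have : closure {y} = T :=
    (hsub.antisymm (hT.2 isIrreducible_singleton.closure hsub)).symm
  exact IsGenericPoint.eq (show IsGenericPoint y T from this) hξ

lemma image_generic_max [T0Space X] {f : X → Y} (hf : GeneralizingMap f) {T : Set X}
    (hT : T ∈ irreducibleComponents X) {ξ : X} (hξ : IsGenericPoint ξ T) {y : Y} (hy : y ⤳ f ξ) :
    y = f ξ := by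
  obtain ⟨η, hη, rfl⟩ := hf hy
  rw [eq_of_specializes_of_mem hT hξ hη]

lemma closure_singleton_mem_components [QuasiSober Y] {y : Y} (h : ∀ y', y' ⤳ y → y' = y) :
    closure {y} ∈ irreducibleComponents Y := by
  refine ⟨isIrreducible_singleton.closure, fun W hW hle => ?_⟩
  have hg := hW.isGenericPoint_genericPoint_closure
  have hsp : hW.genericPoint ⤳ y := hg.specializes (subset_closure (hle (subset_closure rfl)))
  rw [h _ hsp] at hg
  exact subset_closure.trans hg.def.symm.le

lemma closure_image_component [T0Space X] [QuasiSober X] [QuasiSober Y] {f : X → Y}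
    (hc : Continuous f) (hf : GeneralizingMap f) {T : Set X} (hT : T ∈ irreducibleComponents X) :
    closure (f '' T) ∈ irreducibleComponents Y := by
  have hξ := hT.1.isGenericPoint_genericPoint (isClosed_of_mem_irreducibleComponents T hT)
  have := closure_singleton_mem_components (fun y hy => image_generic_max hf hT hξ hy)
  convert this using 1
  rw [← image_singleton (f := f), ← closure_image_closure (s := {hT.1.genericPoint}) hc, hξ.def]

lemma finite_components_nhd [T0Space X] [QuasiSober X] [QuasiSober Y] {f : X → Y} (hc : Continuous f)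
    (hf : GeneralizingMap f) (hfin : ∀ y, (f ⁻¹' {y}).Finite)
    (hY : ∀ y : Y, ∃ U : Set Y, IsOpen U ∧ y ∈ U ∧ {Z ∈ irreducibleComponents Y | (Z ∩ U).Nonempty}.Finite)
    (x : X) :
    ∃ U : Set X, IsOpen U ∧ x ∈ U ∧ {T ∈ irreducibleComponents X | (T ∩ U).Nonempty}.Finite := by
  obtain ⟨U, hU, hxU, hF⟩ := hY (f x)
  refine ⟨f ⁻¹' U, hU.preimage hc, hxU, ?_⟩
  let G : Set Y := (fun Z : irreducibleComponents Y => Z.2.1.genericPoint) ''
    {Z | ((Z : Set Y) ∩ U).Nonempty}
  have hG : G.Finite := by
    refine Finite.image _ (Finite.of_finite_image (f := Subtype.val) (hF.subset ?_) Subtype.val_injective.injOn)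
    rintro _ ⟨Z, hZ, rfl⟩
    exact ⟨Z.2, hZ⟩
  refine ((hG.biUnion fun y _ => hfin y).image fun z => closure {z}).subset ?_
  rintro T ⟨hT, z, hzT, hzU⟩
  have hξ := hT.1.isGenericPoint_genericPoint (isClosed_of_mem_irreducibleComponents T hT)
  refine ⟨hT.1.genericPoint, ?_, hξ.def⟩
  have hcomp := closure_singleton_mem_components (fun y hy => image_generic_max hf hT hξ hy)
  have hfU : f hT.1.genericPoint ∈ U :=
    ((hξ.specializes hzT).map hc).mem_open hU hzU
  refine mem_iUnion₂.mpr ⟨f hT.1.genericPoint, ⟨⟨_, hcomp⟩, ⟨_, subset_closure rfl, hfU⟩, ?_⟩, rfl⟩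
  refine (image_generic_max hf hT hξ ?_)
  exact hcomp.1.isGenericPoint_genericPoint_closure.specializes (subset_closure (subset_closure rfl))

lemma irreducible_of_generic_fibre [QuasiSober Y] [IrreducibleSpace Y] {f : X → Y}
    (hf : GeneralizingMap f) (h : IsIrreducible (f ⁻¹' {genericPoint Y})) : IrreducibleSpace X := by
  have hcl : closure (f ⁻¹' {genericPoint Y}) = univ := by
    refine eq_univ_of_forall fun x => ?_
    obtain ⟨z, hz, hzy⟩ := hf (genericPoint_specializes (f x))
    exact hz.mem_closed isClosed_closure (subset_closure hzy)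
  have := h.closure
  rw [hcl] at this
  exact (irreducibleSpace_def X).mpr this

lemma isOpen_of_stableUnderGeneralization_local [QuasiSober X] {W : Set X} (hW : IsClosed W)
    (hg : StableUnderGeneralization W)
    (hloc : ∀ x : X, ∃ U : Set X, IsOpen U ∧ x ∈ U ∧ NoetherianSpace U) : IsOpen W := by
  refine isOpen_iff_forall_mem_open.mpr fun x hx => ?_
  obtain ⟨U, hU, hxU, hUn⟩ := hloc x
  haveI : QuasiSober U := hU.isOpenEmbedding_subtypeVal.quasiSober
  let F : Set (Set U) := {C ∈ irreducibleComponents U | ¬ C ⊆ Subtype.val ⁻¹' W}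
  have hFfin : F.Finite := NoetherianSpace.finite_irreducibleComponents.subset fun C h => h.1
  have hFcl : IsClosed (⋃₀ F) := by
    rw [sUnion_eq_biUnion]
    exact hFfin.isClosed_biUnion fun C h => isClosed_of_mem_irreducibleComponents C h.1
  refine ⟨Subtype.val '' (⋃₀ F)ᶜ, ?_, hU.isOpenMap_subtype_val _ hFcl.isOpen_compl, ⟨x, hxU⟩, ?_, rfl⟩
  · rintro _ ⟨y, hy, rfl⟩
    by_contra hyW
    refine hy ⟨irreducibleComponent y, ⟨irreducibleComponent_mem_irreducibleComponents y, fun hsub => hyW ?_⟩,
      mem_irreducibleComponent⟩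
    exact hsub mem_irreducibleComponent
  · rintro ⟨C, ⟨hC, hCW⟩, hxC⟩
    refine hCW ?_
    have hgC := hC.1.isGenericPoint_genericPoint (isClosed_of_mem_irreducibleComponents C hC)
    have hgW : (hC.1.genericPoint : U).1 ∈ W :=
      hg ((hgC.specializes hxC).map continuous_subtype_val) hx
    intro c hc
    exact ((hgC.specializes hc).map continuous_subtype_val).mem_closed hW hgW

lemma image_connectedComponent [QuasiSober Y] {f : X → Y} (hc : Continuous f) (hcl : IsClosedMap f)
    (hf : GeneralizingMap f) (hloc : ∀ y : Y, ∃ U : Set Y, IsOpen U ∧ y ∈ U ∧ NoetherianSpace U)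
    (x : X) : f '' connectedComponent x = connectedComponent (f x) := by
  refine (hc.image_connectedComponent_subset x).antisymm ?_
  have h1 : IsClosed (f '' connectedComponent x) := hcl _ isClosed_connectedComponent
  have hstab : StableUnderGeneralization (connectedComponent x) := by
    intro a b hba ha
    have : closure {b} ⊆ connectedComponent a :=
      isPreconnected_singleton.closure.subset_connectedComponent hba.mem_closure
    rw [← connectedComponent_eq ha] at this
    exact this (subset_closure rfl)
  have h2 : IsOpen (f '' connectedComponent x) :=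
    isOpen_of_stableUnderGeneralization_local h1 (hstab.image hf) hloc
  exact IsClopen.connectedComponent_subset ⟨h1, h2⟩ ⟨x, mem_connectedComponent, rfl⟩

end Groth.Agent.FDescent
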