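import Mathlib.RingTheory.Flat.FaithfullyFlat.Basic
import Mathlib.RingTheory.Flat.Stability
import Mathlib.RingTheory.RingHom.Flat

/-! Cancelling a faithfully flat map on the right of a composite. -/

set_option autoImplicit false

open TensorProduct

namespace Groth.Agent.FDescent

universe u

theorem flat_cancel (A B C : Type u) [CommRing A] [CommRing B] [CommRing C] [Algebra A B]
    [Algebra B C] [Algebra A C] [IsScalarTower A B C] [Module.FaithfullyFlat B C]
    [Module.Flat A C] : Module.Flat A B := by
  rw [Module.Flat.iff_lTensor_preserves_injective_linearMap]
  intro N N' _ _ _ _ f hf
  have hC : Function.Injective (f.lTensor C) := Module.Flat.lTensor_preserves_injective_linearMap f hf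
  have h1 : Function.Injective ((f.baseChange B).lTensor C) := by
    let eN := TensorProduct.AlgebraTensorModule.cancelBaseChange A B B C N
    let eN' := TensorProduct.AlgebraTensorModule.cancelBaseChange A B B C N'
    have key : ∀ x, eN' ((f.baseChange B).lTensor C x) = f.lTensor C (eN x) := by
      intro x
      induction x with
      | zero => simp
      | add a b ha hb => simp only [map_add, ha, hb]
      | tmul c y =>
        induction y with
        | zero => simp
        | add a b ha hb => simp only [tmul_add, map_add, ha, hb]
        | tmul b n => simp [eN, eN']
    intro x y hxy
    apply eN.injective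
    apply hC
    rw [← key, ← key, hxy]
  exact (Module.FaithfullyFlat.lTensor_injective_iff_injective B C (f.baseChange B)).mp h1

end Groth.Agent.FDescent
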