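import Mathlib.Algebra.Category.ModuleCat.Sheaf.Generators
import Mathlib.Algebra.Category.ModuleCat.Presheaf.Sheafification
import Mathlib.Algebra.Homology.ShortComplex.ModuleCat
import Mathlib.Algebra.Homology.ShortComplex.PreservesHomology

/-!
# Epimorphisms of sheaves of modules are locally surjective
-/

set_option autoImplicit false

universe u v₁ u₁

open CategoryTheory CategoryTheory.Limits Opposite

namespace Groth.Agent.FDescent

variable {C : Type u₁} [Category.{v₁} C] {J : GrothendieckTopology C} {R : Sheaf J RingCat.{u}}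
  [HasWeakSheafify J AddCommGrpCat.{u}] [J.WEqualsLocallyBijective AddCommGrpCat.{u}]

/-- An epimorphism of sheaves of modules is locally surjective. -/
theorem exists_cover_eq_app {F M : SheafOfModules.{u} R} (π : F ⟶ M) [Epi π] (V : C) (m : M.val.obj (op V)) :
    ∃ S : Sieve V, S ∈ J V ∧ ∀ {W : C} (i : W ⟶ V), S i → ∃ z, π.val.app (op W) z = M.val.map i.op m := by
  let Q := cokernel π.val
  let q : M.val ⟶ Q := cokernel.π π.val
  let adj := PresheafOfModules.sheafificationAdjunction (𝟙 R.obj)
  let G := SheafOfModules.forget R ⋙ PresheafOfModules.restrictScalars (𝟙 R.obj)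
  haveI : G.Full := adj.fullyFaithfulROfIsIsoCounit.full
  haveI : G.Faithful := adj.fullyFaithfulROfIsIsoCounit.faithful
  let θ : G.obj M ⟶ G.obj ((PresheafOfModules.sheafification (𝟙 R.obj)).obj Q) := q ≫ adj.unit.app Q
  have hψ : G.preimage θ = 0 := by
    rw [← cancel_epi π, comp_zero]
    apply G.map_injective
    rw [G.map_comp, G.map_preimage]
    ext W z
    change (adj.unit.app Q).app W ((π.val ≫ q).app W z) = 0
    rw [cokernel.condition]
    exact map_zero _
  have hθ : θ = 0 := by
    rw [← G.map_preimage θ, hψ]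
    rfl
  have h0 : (CategoryTheory.toSheafify J Q.presheaf).app (op V) (q.app (op V) m) =
      (CategoryTheory.toSheafify J Q.presheaf).app (op V) 0 := by
    rw [map_zero]
    exact congr((($hθ).app (op V)).hom m)
  refine ⟨_, Presheaf.equalizerSieve_mem J _ _ _ h0, fun {W} i hi => ?_⟩
  have hS := (ShortComplex.exact_cokernel π.val).map (PresheafOfModules.evaluation R.obj (op W))
  rw [ShortComplex.moduleCat_exact_iff] at hS
  refine hS (M.val.map i.op m) ?_
  exact (PresheafOfModules.naturality_apply q i.op m).trans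
    ((show Q.map i.op (q.app (op V) m) = Q.map i.op 0 from hi).trans (map_zero _))

/-- Images of sections of a finite free module lie in the span of the generators. -/
theorem app_mem_span {M : SheafOfModules.{u} R} (σ : M.GeneratingSections) [Finite σ.I] (W : Cᵒᵖ)
    (z : (SheafOfModules.free (R := R) σ.I).val.obj W) :
    σ.π.val.app W z ∈ Submodule.span (R.obj.obj W) (Set.range fun i => (σ.s i).eval W) := by
  classical
  haveI := Fintype.ofFinite σ.I
  let p : σ.I → (SheafOfModules.free (R := R) σ.I ⟶ SheafOfModules.unit R) := fun i =>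
    Cofan.IsColimit.desc (SheafOfModules.isColimitFreeCofan σ.I) fun j => if j = i then 𝟙 _ else 0
  have hp : ∀ i j, SheafOfModules.ιFree j ≫ p i = if j = i then 𝟙 _ else 0 := fun i j =>
    Cofan.IsColimit.fac (SheafOfModules.isColimitFreeCofan σ.I) _ j
  have hπ : σ.π = ∑ i, p i ≫ M.unitHomEquiv.symm (σ.s i) := by
    refine Cofan.IsColimit.hom_ext (SheafOfModules.isColimitFreeCofan σ.I) _ _ fun j => ?_
    change SheafOfModules.ιFree (R := R) j ≫ (_ : SheafOfModules.free (R := R) σ.I ⟶ M) =
      SheafOfModules.ιFree (R := R) j ≫ (_ : SheafOfModules.free (R := R) σ.I ⟶ M)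
    rw [Preadditive.comp_sum]
    rw [← SheafOfModules.unitHomEquiv_symm_freeHomEquiv_apply, Equiv.apply_symm_apply,
      Finset.sum_eq_single j]
    · rw [← Category.assoc, hp, if_pos rfl, Category.id_comp]
    · intro b _ hb
      rw [← Category.assoc, hp, if_neg (Ne.symm hb), zero_comp]
    · simp
  have hmem : ∀ i, (p i ≫ M.unitHomEquiv.symm (σ.s i)).val.app W z ∈
      Submodule.span (R.obj.obj W) (Set.range fun i => (σ.s i).eval W) := fun i => by
    have e : (p i ≫ M.unitHomEquiv.symm (σ.s i)).val.app W z =
        ((p i).val.app W z : R.obj.obj W) • (σ.s i).eval W := rfl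
    rw [e]
    exact Submodule.smul_mem _ _ (Submodule.subset_span ⟨i, rfl⟩)
  rw [hπ]
  change ((SheafOfModules.forget R ⋙ PresheafOfModules.evaluation _ W).map _).hom z ∈ _
  rw [Functor.map_sum, ModuleCat.hom_sum, LinearMap.sum_apply]
  exact Submodule.sum_mem _ fun i _ => hmem i

end Groth.Agent.FDescent
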