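import Groth.Prelude.Def_Coh
import Groth.Prelude.Def_FlatMod2
import Groth.Agent.FDescent.ModEpi

/-!
# Stalks of modules of finite type are finite modules
-/

set_option autoImplicit false

universe u

open CategoryTheory CategoryTheory.Limits AlgebraicGeometry Opposite TopologicalSpace

namespace Groth.Agent.FDescent

variable {X : Scheme.{u}}

/-- Germs of linear combinations. -/
theorem germ_mem_span {M : X.Modules} {W : X.Opens} {x : X} (hx : x ∈ W) {ι : Type u} (w : ι → Γ(M, W))
    (N : Submodule (X.presheaf.stalk x) (M.presheaf.stalk x)) (hw : ∀ j, M.presheaf.germ W x hx (w j) ∈ N)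
    (z : Γ(M, W)) (hz : z ∈ Submodule.span Γ(X, W) (Set.range w)) : M.presheaf.germ W x hx z ∈ N := by
  induction hz using Submodule.span_induction with
  | mem a ha =>
    obtain ⟨j, rfl⟩ := ha
    exact hw j
  | zero => rw [map_zero]; exact N.zero_mem
  | add a b _ _ ha hb => rw [map_add]; exact N.add_mem ha hb
  | smul r a _ ha =>
    have e := PresheafOfModules.germ_smul (M := M.val) x W hx r a
    exact (congrArg (· ∈ N) e).mpr (N.smul_mem _ ha)

/-- The stalks of a module of finite type are finite over the local rings. -/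
theorem finite_stalk (M : X.Modules) [hM : SheafOfModules.IsFiniteType (R := X.ringCatSheaf) M] (x : X) :
    Module.Finite (X.presheaf.stalk x) (M.presheaf.stalk x) := by
  obtain ⟨σ, hσ⟩ := hM.exists_localGeneratorsData
  obtain ⟨k, hk⟩ := ((Opens.coversTop_iff _ σ.X).1 σ.coversTop).exists_mem x
  let G := σ.generators k
  haveI : Finite G.I := (hσ.isFiniteType k).finite
  let U := σ.X k
  let t : G.I → Γ(M, U) := fun j => (G.s j).eval (op (Over.mk (𝟙 U)))
  rw [Module.finite_def, Submodule.fg_def]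
  refine ⟨Set.range fun j => M.presheaf.germ U x hk (t j), Set.finite_range _, ?_⟩
  rw [eq_top_iff]
  intro y _
  obtain ⟨V, hxV, m, rfl⟩ := TopCat.Presheaf.germ_exist M.presheaf y
  let V' : X.Opens := U ⊓ V
  let V₀ : Over U := Over.mk (homOfLE inf_le_left : V' ⟶ U)
  let m' : (SheafOfModules.over M U).val.obj (op V₀) := M.presheaf.map (homOfLE inf_le_right : V' ⟶ V).op m
  obtain ⟨S, hS, hz⟩ := exists_cover_eq_app G.π V₀ m'
  rw [GrothendieckTopology.mem_over_iff] at hS
  obtain ⟨W, i, hi, hxW⟩ := hS x ⟨hk, hxV⟩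
  obtain ⟨W₀, i₀, h, hSi, -⟩ := hi
  obtain ⟨z, hz'⟩ := hz i₀ hSi
  have hxW₀ : x ∈ W₀.left := h.le hxW
  have hspan := app_mem_span G (op W₀) z
  rw [hz'] at hspan
  let N := Submodule.span (X.presheaf.stalk x) (Set.range fun j => M.presheaf.germ U x hk (t j))
  have hgen : ∀ j, M.presheaf.germ W₀.left x hxW₀ ((G.s j).eval (op W₀)) ∈ N := fun j => by
    have e : M.presheaf.map W₀.hom.op (t j) = (G.s j).eval (op W₀) :=
      (G.s j).property (Over.homMk W₀.hom (by simp) : W₀ ⟶ Over.mk (𝟙 U)).op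
    have e' : M.presheaf.germ W₀.left x hxW₀ ((G.s j).eval (op W₀)) = M.presheaf.germ U x hk (t j) :=
      (congrArg (fun w => M.presheaf.germ W₀.left x hxW₀ w) e.symm).trans
        (TopCat.Presheaf.germ_res_apply M.presheaf W₀.hom x hxW₀ (t j))
    exact (congrArg (· ∈ N) e').mpr (Submodule.subset_span ⟨j, rfl⟩)
  have hmem : M.presheaf.germ W₀.left x hxW₀ (M.presheaf.map i₀.left.op
      (M.presheaf.map (homOfLE inf_le_right : V' ⟶ V).op m)) ∈ N :=
    germ_mem_span hxW₀ (fun j => (G.s j).eval (op W₀)) N hgen _ hspan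
  have e1 : M.presheaf.germ W₀.left x hxW₀ (M.presheaf.map i₀.left.op
      (M.presheaf.map (homOfLE inf_le_right : V' ⟶ V).op m)) = M.presheaf.germ V x hxV m :=
    (TopCat.Presheaf.germ_res_apply M.presheaf i₀.left x hxW₀ _).trans
      (TopCat.Presheaf.germ_res_apply M.presheaf (homOfLE inf_le_right : V' ⟶ V) x ⟨hk, hxV⟩ m)
  exact (congrArg (· ∈ N) e1).mp hmem

end Groth.Agent.FDescent
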