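import Groth.Prelude.Def_FDesc
import Groth.Agent.FDescent.StalkFinite
import Groth.Agent.ProConsLib.Basic
import Mathlib.RingTheory.Flat.FaithfullyFlat.Basic
import Mathlib.RingTheory.Flat.FaithfullyFlat.Algebra
import Mathlib.AlgebraicGeometry.Morphisms.UniversallyOpen
import Mathlib.AlgebraicGeometry.Morphisms.ClosedImmersion
import Mathlib.RingTheory.Nakayama

/-!
# Quasi-flat morphisms: generizations lift, closures commute with preimages
-/

set_option autoImplicit false

universe u

open CategoryTheory AlgebraicGeometry TensorProduct Topology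

namespace Groth.Agent.FDescent

/-- A finite module which is flat and nonzero over a local ring map forces surjectivity on spectra. -/
theorem comap_surjective_of_flat_module {A B : Type u} [CommRing A] [CommRing B] [IsLocalRing A] [IsLocalRing B]
    [Algebra A B] [IsLocalHom (algebraMap A B)] (N : Type u) [AddCommGroup N] [Module B N] [Module A N]
    [IsScalarTower A B N] [Module.Finite B N] [Module.Flat A N] [Nontrivial N] :
    Function.Surjective (PrimeSpectrum.comap (algebraMap A B)) := by
  haveI : Module.FaithfullyFlat A N := by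
    refine ⟨fun m hm ht => ?_⟩
    obtain rfl := IsLocalRing.eq_maximalIdeal hm
    have h1 : (⊤ : Submodule B N) ≤ (IsLocalRing.maximalIdeal A).map (algebraMap A B) • ⊤ := fun n _ => by
      have hn : n ∈ (IsLocalRing.maximalIdeal A • ⊤ : Submodule A N) := by rw [ht]; trivial
      refine Submodule.smul_induction_on hn (fun a ha k _ => ?_) fun _ _ => add_mem
      rw [← IsScalarTower.algebraMap_smul B a k]
      exact Submodule.smul_mem_smul (Ideal.mem_map_of_mem _ ha) trivial
    exact (top_ne_bot : (⊤ : Submodule B N) ≠ ⊥) (Submodule.eq_bot_of_le_smul_of_le_jacobson_bot _ _ Module.Finite.fg_top h1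
      ((IsLocalRing.le_maximalIdeal (IsLocalRing.map_maximalIdeal_lt_top (algebraMap A B)).ne).trans
        (IsLocalRing.jacobson_eq_maximalIdeal ⊥ bot_ne_top).ge))
  intro p
  rw [← Set.mem_range, ← PrimeSpectrum.nontrivial_iff_mem_rangeComap]
  by_contra hne
  rw [not_nontrivial_iff_subsingleton] at hne
  haveI : Subsingleton (B ⊗[A] p.asIdeal.ResidueField) :=
    (TensorProduct.comm A B p.asIdeal.ResidueField).injective.subsingleton
  haveI : Nontrivial (N ⊗[A] p.asIdeal.ResidueField) :=
    Module.FaithfullyFlat.nontrivial_tensorProduct_iff_right (R := A) (M := N) (N := p.asIdeal.ResidueField) |>.mpr inferInstance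
  haveI : Subsingleton (N ⊗[A] p.asIdeal.ResidueField) :=
    (TensorProduct.AlgebraTensorModule.cancelBaseChange A B B N p.asIdeal.ResidueField).symm.injective.subsingleton
  exact false_of_nontrivial_of_subsingleton (N ⊗[A] p.asIdeal.ResidueField)

variable {X Y : Scheme.{u}} (f : X ⟶ Y)

theorem stalk_comap_surjective (hf : FDesc.IsQuasiFlat f) (x : X) :
    Function.Surjective (Spec.map (f.stalkMap x)).base := by
  obtain ⟨M, hM, hflat, hne⟩ := hf
  haveI := hM.2
  letI := (f.stalkMap x).hom.toAlgebra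
  letI := FlatMod.moduleStalkOver f M x
  haveI : IsScalarTower (Y.presheaf.stalk (f.base x)) (X.presheaf.stalk x) (M.presheaf.stalk x) :=
    IsScalarTower.of_algebraMap_smul fun _ _ => rfl
  haveI : Module.Finite (X.presheaf.stalk x) (M.presheaf.stalk x) := finite_stalk M x
  haveI : Module.Flat (Y.presheaf.stalk (f.base x)) (M.presheaf.stalk x) := hflat x
  haveI := hne x
  haveI : IsLocalHom (algebraMap (Y.presheaf.stalk (f.base x)) (X.presheaf.stalk x)) :=
    inferInstanceAs (IsLocalHom (f.stalkMap x).hom)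
  exact comap_surjective_of_flat_module (A := Y.presheaf.stalk (f.base x)) (B := X.presheaf.stalk x) (M.presheaf.stalk x)

theorem generalizingMap_of_isQuasiFlat (hf : FDesc.IsQuasiFlat f) : GeneralizingMap f.base := by
  intro x y hy
  have hy' : y ∈ Set.range (Y.fromSpecStalk (f.base x)).base := by
    rw [Scheme.range_fromSpecStalk]
    exact hy
  obtain ⟨p, rfl⟩ := hy'
  obtain ⟨q, rfl⟩ := stalk_comap_surjective f hf x p
  refine ⟨(X.fromSpecStalk x).base q, ?_, ?_⟩
  · have : (X.fromSpecStalk x).base q ∈ Set.range (X.fromSpecStalk x).base := ⟨q, rfl⟩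
    rw [Scheme.range_fromSpecStalk] at this
    exact this
  · rw [← Scheme.Hom.comp_apply, ← Scheme.SpecMap_stalkMap_fromSpecStalk]
    rfl

/-- Points of the closure of the image of a quasi-compact morphism are specializations of image points. -/
theorem exists_specializes_of_mem_closure_range [QuasiCompact f] {y : Y} (hy : y ∈ closure (Set.range f.base)) :
    ∃ x, f.base x ⤳ y := by
  obtain ⟨_, ⟨V, hV, rfl⟩, hyV, -⟩ :=
    Y.isBasis_affineOpens.exists_subset_of_mem_open (Set.mem_univ y) isOpen_univ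
  obtain ⟨S, hS, hcov⟩ := (isCompact_and_isOpen_iff_finite_and_eq_biUnion_affineOpens).mp
    ⟨(f ⁻¹ᵁ V).isOpen |> fun _ => f.isCompact_preimage hV.isCompact, (f ⁻¹ᵁ V).isOpen⟩
  have hy' : y ∈ closure (⋃ W ∈ S, f.base '' (W : Set X)) := by
    have h1 : y ∈ closure ((V : Set Y) ∩ Set.range f.base) := V.isOpen.inter_closure ⟨hyV, hy⟩
    refine closure_mono ?_ h1
    rintro _ ⟨hv, x, rfl⟩
    have hx : x ∈ ⋃ W ∈ S, ((W : X.Opens) : Set X) := hcov ▸ hv
    simp only [Set.mem_iUnion] at hx ⊢
    obtain ⟨W, hW, hxW⟩ := hx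
    exact ⟨W, hW, x, hxW, rfl⟩
  rw [hS.closure_biUnion, Set.mem_iUnion₂] at hy'
  obtain ⟨W, hW, hyW⟩ := hy'
  have hWV : (W : X.Opens) ≤ f ⁻¹ᵁ V := fun x hx => by
    have : x ∈ ⋃ W ∈ S, ((W : X.Opens) : Set X) := Set.mem_biUnion hW hx
    rwa [← hcov] at this
  let g := f.resLE V W hWV
  haveI : IsAffine (W : X.Opens) := W.2
  haveI : IsAffine V := hV
  have hyg : ∀ p : ↥(V : Scheme), Scheme.Opens.ι V p = y → p ∈ closure (Set.range g.base) := fun p hp => by
    rw [(Scheme.Opens.ι V).isOpenEmbedding.isInducing.closure_eq_preimage_closure_image, Set.mem_preimage, hp]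
    refine closure_mono ?_ hyW
    rintro _ ⟨x, hx, rfl⟩
    exact ⟨g.base ⟨x, hx⟩, ⟨_, rfl⟩, congr($(Scheme.Hom.resLE_comp_ι f hWV).base ⟨x, hx⟩)⟩
  obtain ⟨⟨x, hx⟩, hxy⟩ := ProConsLib.exists_specializes_of_mem_closure_range g.isSpectralMap (hyg ⟨y, hyV⟩ rfl)
  refine ⟨x, ?_⟩
  have h2 := hxy.map continuous_subtype_val
  have e : (g.base ⟨x, hx⟩).1 = f.base x := congr($(Scheme.Hom.resLE_comp_ι f hWV).base ⟨x, hx⟩)
  exact e ▸ h2

variable {f}

/-- Generalizing maps: preimage of closure is closure of preimage, when closures are given by specializations. -/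
theorem preimage_closure_eq (hf : GeneralizingMap f.base) {Z : Set Y}
    (hZ : ∀ y ∈ closure Z, ∃ z ∈ Z, z ⤳ y) : f.base ⁻¹' closure Z = closure (f.base ⁻¹' Z) := by
  refine subset_antisymm (fun x hx => ?_) (f.continuous.closure_preimage_subset Z)
  obtain ⟨z, hz, hzx⟩ := hZ _ hx
  obtain ⟨x', hx', rfl⟩ := hf hzx
  exact closure_mono (Set.singleton_subset_iff.mpr (show x' ∈ f.base ⁻¹' Z from hz)) (specializes_iff_mem_closure.mp hx')

theorem preimage_closure_range (hf : GeneralizingMap f.base) {Y' : Scheme.{u}} (g : Y' ⟶ Y) [QuasiCompact g] :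
    f.base ⁻¹' closure (Set.range g.base) = closure (f.base ⁻¹' Set.range g.base) :=
  preimage_closure_eq hf fun _ hy => let ⟨z, hz⟩ := exists_specializes_of_mem_closure_range g hy; ⟨_, ⟨z, rfl⟩, hz⟩

end Groth.Agent.FDescent
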