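import Mathlib.Topology.Sober
import Mathlib.Topology.Irreducible

/-!
# Maximal points and irreducible components of sober spaces
-/

set_option autoImplicit false

universe u

namespace Groth.Agent.FDescent

variable {X : Type u} [TopologicalSpace X] [QuasiSober X] [T0Space X]

theorem maximal_of_closure_mem_irreducibleComponents {x : X} (h : closure {x} ∈ irreducibleComponents X)
    {y : X} (hy : y ⤳ x) : y = x :=
  (hy.antisymm (specializes_iff_mem_closure.mpr
    (h.2 (isIrreducible_singleton.closure) (closure_minimal (Set.singleton_subset_iff.mpr
      (specializes_iff_mem_closure.mp hy)) isClosed_closure) (subset_closure rfl)))).eq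

theorem closure_mem_irreducibleComponents {x : X} (h : ∀ y, y ⤳ x → y = x) :
    closure {x} ∈ irreducibleComponents X := by
  refine ⟨isIrreducible_singleton.closure, fun Z hZ hle => ?_⟩
  have hg := hZ.isGenericPoint_genericPoint_closure
  have hx : hZ.genericPoint = x := h _ (hg.specializes (subset_closure (hle (subset_closure rfl))))
  rw [hx] at hg
  exact subset_closure.trans hg.def.ge

theorem exists_maximal_of_mem_irreducibleComponents {Z : Set X} (h : Z ∈ irreducibleComponents X) :
    ∃ x, Z = closure {x} ∧ ∀ y, y ⤳ x → y = x := by
  have hc := isClosed_of_mem_irreducibleComponents Z h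
  refine ⟨h.1.genericPoint, ((h.1.isGenericPoint_genericPoint hc).def).symm, fun y hy => ?_⟩
  refine maximal_of_closure_mem_irreducibleComponents ?_ hy
  rw [(h.1.isGenericPoint_genericPoint hc).def]
  exact h

end Groth.Agent.FDescent
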