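import Mathlib.AlgebraicGeometry.Morphisms.UniversallyOpen
import Mathlib.AlgebraicGeometry.Morphisms.ClosedImmersion
import Mathlib.AlgebraicGeometry.ResidueField
import Mathlib.AlgebraicGeometry.PullbackCarrier

/-! Universal openness can be tested on a surjective closed subscheme; discrete targets. -/

set_option autoImplicit false

open CategoryTheory Limits AlgebraicGeometry

namespace Groth.Agent.FDescent

universe u

theorem universallyOpen_of_thickening {X Y Y₀ : Scheme.{u}} (f : X ⟶ Y) (i : Y₀ ⟶ Y)
    [IsClosedImmersion i] [Surjective i] [UniversallyOpen (pullback.snd f i)] :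
    UniversallyOpen f := by
  rw [UniversallyOpen.eq]
  refine MorphismProperty.universally_mk' _ _ fun {T} g _ => ?_
  change IsOpenMap (pullback.fst g f).base
  intro U hU
  set q := pullback.fst g f
  set j := pullback.fst g i
  -- P₀ = (T ×_Y X) ×_T (T ×_Y Y₀)
  have hq0 : UniversallyOpen (pullback.snd q j) := by
    have hw : (pullback.fst q j ≫ pullback.snd g f) ≫ f =
        (pullback.snd q j ≫ pullback.snd g i) ≫ i := by
      rw [Category.assoc, ← pullback.condition, pullback.condition_assoc, Category.assoc,
        ← pullback.condition]
    have big : IsPullback (pullback.fst q j ≫ pullback.snd g f) (pullback.snd q j) f (j ≫ g) :=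
      (IsPullback.of_hasPullback q j).paste_horiz (IsPullback.of_hasPullback g f).flip
    have sq2 : IsPullback (pullback.lift _ _ hw) (pullback.snd q j) (pullback.snd f i)
        (pullback.snd g i) := by
      refine IsPullback.of_right ?_ (pullback.lift_snd _ _ _) (IsPullback.of_hasPullback f i)
      rw [pullback.lift_fst, ← pullback.condition]
      exact big
    exact MorphismProperty.of_isPullback sq2 inferInstance
  have hopen := (pullback.snd q j).isOpenMap _ (hU.preimage (pullback.fst q j).continuous)
  have hj : IsHomeomorph j.base :=
    isHomeomorph_iff_isEmbedding_surjective.mpr ⟨j.isClosedEmbedding.isEmbedding, j.surjective⟩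
  have := hj.isOpenMap _ hopen
  rw [← Set.image_comp, ← TopCat.coe_comp, ← Scheme.Hom.comp_base, ← pullback.condition,
    Scheme.Hom.comp_base, TopCat.coe_comp, Set.image_comp,
    Set.image_preimage_eq _ (pullback.fst q j).surjective] at this
  exact this

theorem universallyOpen_of_subsingleton {X Y : Scheme.{u}} (f : X ⟶ Y) [Subsingleton Y] :
    UniversallyOpen f := by
  rcases isEmpty_or_nonempty Y with hY | ⟨⟨y⟩⟩
  · have : IsEmpty X := f.base.hom.toFun |> Function.isEmpty
    rw [UniversallyOpen.eq]
    refine MorphismProperty.universally_mk' _ _ fun {T} g _ => ?_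
    have : IsEmpty T := g.base.hom.toFun |> Function.isEmpty
    intro U _
    convert isOpen_empty
    exact Set.eq_empty_of_isEmpty _
  let i := Y.fromSpecResidueField y
  have : IsClosedImmersion i := .of_isPreimmersion _ (isClosed_discrete _)
  have : Surjective i := ⟨fun z => ⟨default, Subsingleton.elim _ _⟩⟩
  exact universallyOpen_of_thickening f i

theorem universallyOpen_of_discreteTopology {X Y : Scheme.{u}} (f : X ⟶ Y) [DiscreteTopology Y] :
    UniversallyOpen f := by
  let U : Y → Y.Opens := fun y => ⟨{y}, isOpen_discrete _⟩
  have hU : iSup U = ⊤ :=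
    TopologicalSpace.Opens.ext (Set.eq_univ_of_forall fun y => by simp [U])
  refine (IsZariskiLocalAtTarget.iff_of_iSup_eq_top (P := @UniversallyOpen) U hU).mpr fun y => ?_
  have : Subsingleton (U y : Scheme.{u}) :=
    ⟨fun a b => Subtype.ext (a.2.trans b.2.symm)⟩
  exact universallyOpen_of_subsingleton _

end Groth.Agent.FDescent
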