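import Groth.Agent.FDescent.QuasiFlat
import Mathlib.LinearAlgebra.TensorProduct.Quotient
import Mathlib.RingTheory.TensorProduct.Maps
import Mathlib.AlgebraicGeometry.Morphisms.Flat
import Mathlib.AlgebraicGeometry.PullbackCarrier
import Mathlib.RingTheory.Ideal.Maximal

/-!
# Base change of quasi-flat morphisms: generizations lift
-/

set_option autoImplicit false

universe u

open CategoryTheory CategoryTheory.Limits AlgebraicGeometry TensorProduct Topology

namespace Groth.Agent.FDescent

theorem mem_smul_top_of_flat {A M : Type u} [CommRing A] [AddCommGroup M] [Module A M] [Module.Flat A M]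
    (p : Ideal A) [p.IsPrime] {a : A} (ha : a ∉ p) {m : M} (h : a • m ∈ (p • ⊤ : Submodule A M)) :
    m ∈ (p • ⊤ : Submodule A M) := by
  let μ : (A ⧸ p) →ₗ[A] (A ⧸ p) := LinearMap.lsmul A (A ⧸ p) a
  have hμ : Function.Injective μ := fun x y hxy => by
    have h1 : Ideal.Quotient.mk p a * x = Ideal.Quotient.mk p a * y := by
      simpa only [μ, LinearMap.lsmul_apply, Algebra.smul_def, Ideal.Quotient.algebraMap_eq] using hxy
    exact mul_left_cancel₀ (mt Ideal.Quotient.eq_zero_iff_mem.mp ha) h1
  have hzero : m ⊗ₜ[A] (Ideal.Quotient.mk p 1) = (0 : M ⊗[A] (A ⧸ p)) := by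
    apply Module.Flat.lTensor_preserves_injective_linearMap (M := M) μ hμ
    rw [map_zero, LinearMap.lTensor_tmul]
    apply (TensorProduct.tensorQuotEquivQuotSMul M p).injective
    rw [map_zero]
    change TensorProduct.tensorQuotEquivQuotSMul M p (m ⊗ₜ[A] (a • Ideal.Quotient.mk p 1)) = 0
    rw [← TensorProduct.smul_tmul, TensorProduct.tensorQuotEquivQuotSMul_tmul_mk, one_smul,
      Submodule.Quotient.mk_eq_zero]
    exact h
  have h2 := congrArg (TensorProduct.tensorQuotEquivQuotSMul M p) hzero
  rwa [map_zero, TensorProduct.tensorQuotEquivQuotSMul_tmul_mk, one_smul, Submodule.Quotient.mk_eq_zero] at h2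

/-- Generizations lift along the base change of a local map carrying a finite flat nonzero module. -/
theorem exists_prime_le_ker {A A' B C : Type u} [CommRing A] [CommRing A'] [CommRing B] [CommRing C]
    [IsLocalRing A'] [IsLocalRing B] [IsLocalRing C] [Algebra A A'] [Algebra A B]
    (N : Type u) [AddCommGroup N] [Module B N] [Module A N]
    [IsScalarTower A B N] [Module.Finite B N] [Module.Flat A N] [Nontrivial N]
    (α : A' →+* C) (β : B →+* C) [IsLocalHom α] [IsLocalHom β]
    (hc : ∀ r : A, α (algebraMap A A' r) = β (algebraMap A B r)) (p : Ideal A') [p.IsPrime] :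
    ∃ (σ : A' ⊗[A] B →+* C) (P : Ideal (A' ⊗[A] B)), (∀ a b, σ (a ⊗ₜ b) = α a * β b) ∧
      P.IsPrime ∧ P ≤ (IsLocalRing.maximalIdeal C).comap σ ∧
      P.comap Algebra.TensorProduct.includeLeftRingHom = p := by
  letI : Algebra A C := (α.comp (algebraMap A A')).toAlgebra
  let α₀ : A' →ₐ[A] C := ⟨α, fun _ => rfl⟩
  let β₀ : B →ₐ[A] C := ⟨β, fun r => (hc r).symm⟩
  let T := A' ⊗[A] B
  let σ₀ : T →ₐ[A] C := Algebra.TensorProduct.lift α₀ β₀ fun _ _ => Commute.all _ _
  have hσ₀ : ∀ (a : A') (b : B), σ₀ (a ⊗ₜ b) = α a * β b := fun a b =>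
    Algebra.TensorProduct.lift_tmul _ _ _ a b
  let K := IsLocalRing.ResidueField C
  let r : C →+* K := IsLocalRing.residue C
  letI : Algebra B K := (r.comp β).toAlgebra
  let V := K ⊗[B] N
  haveI : Nontrivial V := by
    let kB := IsLocalRing.ResidueField B
    letI : Algebra kB K := (IsLocalRing.ResidueField.map β).toAlgebra
    haveI : IsScalarTower B kB K := IsScalarTower.of_algebraMap_eq fun _ => rfl
    haveI : Nontrivial (kB ⊗[B] N) := by
      by_contra hn
      rw [not_nontrivial_iff_subsingleton] at hn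
      haveI := (IsLocalRing.subsingleton_tensorProduct (R := B) (M := N)).mp hn
      exact false_of_nontrivial_of_subsingleton N
    haveI : Module.FaithfullyFlat kB K := inferInstance
    haveI : Nontrivial (K ⊗[kB] (kB ⊗[B] N)) :=
      (Module.FaithfullyFlat.nontrivial_tensorProduct_iff_right (R := kB) (M := K) (N := kB ⊗[B] N)).mpr inferInstance
    exact (TensorProduct.AlgebraTensorModule.cancelBaseChange B kB K K N).injective.nontrivial
  let F : A' →+ N →+ V := AddMonoidHom.mk' (fun a => AddMonoidHom.mk' (fun n => (r (α a) ⊗ₜ[B] n : K ⊗[B] N))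
      (fun _ _ => TensorProduct.tmul_add _ _ _))
    (fun a a' => by ext n; simp [TensorProduct.add_tmul])
  let φ : A' ⊗[A] N →+ V := TensorProduct.liftAddHom F
    fun c a n => by
      change r (α (c • a)) ⊗ₜ[B] n = r (α a) ⊗ₜ[B] (c • n)
      rw [← IsScalarTower.algebraMap_smul B c n, ← TensorProduct.smul_tmul, Algebra.smul_def, Algebra.smul_def,
        map_mul, map_mul, hc, RingHom.algebraMap_toAlgebra, RingHom.comp_apply]
  have hφ : ∀ a n, φ (a ⊗ₜ n) = r (α a) ⊗ₜ[B] n := fun a n => TensorProduct.liftAddHom_tmul _ _ a n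
  let g : B →ₐ[A] Module.End A' (A' ⊗[A] N) := (Module.End.baseChangeHom A A' N).comp (Algebra.lsmul A A N)
  let L : T →ₐ[A'] Module.End A' (A' ⊗[A] N) :=
    Algebra.TensorProduct.lift (Algebra.ofId A' _) g fun a b => Algebra.commutes a (g b)
  have hL : ∀ (s : T) (m : A' ⊗[A] N), φ (L s m) = r (σ₀ s) • φ m := by
    intro s m
    induction s using TensorProduct.induction_on with
    | zero => simp
    | add s t hs ht => simp [map_add, LinearMap.add_apply, hs, ht, add_smul]
    | tmul a b =>
      induction m with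
      | zero => simp
      | add m n hm hn => simp only [map_add, hm, hn, smul_add]
      | tmul a' n =>
        have h1 : L (a ⊗ₜ b) (a' ⊗ₜ[A] n) = (a * a') ⊗ₜ[A] (b • n) := by
          change (Algebra.TensorProduct.lift _ g _ (a ⊗ₜ b)) _ = _
          rw [Algebra.TensorProduct.lift_tmul, Module.End.mul_apply, Algebra.ofId_apply,
            Module.algebraMap_end_apply]
          change a • (a' ⊗ₜ[A] (b • n) : A' ⊗[A] N) = _
          rw [TensorProduct.smul_tmul', smul_eq_mul]
        rw [h1, hφ, hφ, hσ₀, TensorProduct.smul_tmul', ← TensorProduct.smul_tmul, Algebra.smul_def,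
          RingHom.algebraMap_toAlgebra, RingHom.comp_apply, smul_eq_mul]
        congr 1
        simp only [map_mul]
        ring
  let Q : Ideal T := (IsLocalRing.maximalIdeal C).comap σ₀.toRingHom
  haveI : Q.IsPrime := Ideal.comap_isPrime _ _
  let ι : A' →+* T := Algebra.TensorProduct.includeLeftRingHom
  let S : Submonoid T := Q.primeCompl ⊔ p.primeCompl.map ι.toMonoidHom
  have hdisj : Disjoint (p.map ι : Set T) (S : Set T) := by
    rw [Set.disjoint_left]
    intro t ht htS
    obtain ⟨s, hs, _, ⟨a, ha, rfl⟩, rfl⟩ := Submonoid.mem_sup.mp htS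
    haveI : Module.Flat A' (A' ⊗[A] N) := inferInstance
    have hmem : ∀ t ∈ p.map ι, ∀ m, L t m ∈ (p • ⊤ : Submodule A' (A' ⊗[A] N)) := by
      intro t ht
      refine Submodule.span_induction ?_ ?_ ?_ ?_ ht
      · rintro _ ⟨x, hx, rfl⟩ m
        have : L (ι x) = algebraMap A' _ x := L.commutes x
        rw [this]
        exact Submodule.smul_mem_smul hx trivial
      · intro m; simp
      · intro u v _ _ hu hv m
        rw [map_add, LinearMap.add_apply]
        exact add_mem (hu m) (hv m)
      · intro u v _ hv m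
        rw [smul_eq_mul, mul_comm, map_mul, Module.End.mul_apply]
        exact hv _
    have hsm : ∀ m, L s m ∈ (p • ⊤ : Submodule A' (A' ⊗[A] N)) := fun m => by
      refine mem_smul_top_of_flat p ha ?_
      have := hmem _ ht m
      rw [show (ι.toMonoidHom a : T) = algebraMap A' T a from rfl, mul_comm, map_mul, AlgHom.commutes,
        Module.End.mul_apply, Module.algebraMap_end_apply] at this
      exact this
    have hkill : ∀ m ∈ (p • ⊤ : Submodule A' (A' ⊗[A] N)), φ m = 0 := by
      intro m hm
      refine Submodule.smul_induction_on hm (fun x hx k _ => ?_) (fun x y hx hy => by rw [map_add, hx, hy, add_zero])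
      induction k with
      | zero => simp
      | add k l hk hl => rw [smul_add, map_add, hk trivial, hl trivial, add_zero]
      | tmul a' n =>
        have hx' : r (α x) = 0 := (IsLocalRing.residue_eq_zero_iff _).mpr
          (fun hu => (IsLocalRing.le_maximalIdeal (Ideal.IsPrime.ne_top ‹_›) hx) (isUnit_of_map_unit α x hu))
        rw [TensorProduct.smul_tmul', hφ, smul_eq_mul, map_mul, map_mul, hx', zero_mul, TensorProduct.zero_tmul]
    have hunit : r (σ₀ s) ≠ 0 := fun h0 => hs ((IsLocalRing.residue_eq_zero_iff _).mp h0)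
    have hV : ∀ v : V, r (σ₀ s) • v = 0 := by
      intro v
      induction v using TensorProduct.induction_on with
      | zero => simp
      | add v w hv hw => rw [smul_add, hv, hw, add_zero]
      | tmul k n =>
        have h0 := hkill _ (hsm (1 ⊗ₜ n))
        rw [hL, hφ, map_one, map_one] at h0
        calc r (σ₀ s) • (k ⊗ₜ[B] n : V) = k • (r (σ₀ s) • ((1 : K) ⊗ₜ[B] n)) := by
              rw [smul_comm, TensorProduct.smul_tmul' k, smul_eq_mul, mul_one]
          _ = 0 := by rw [h0, smul_zero]
    obtain ⟨v, hv⟩ := exists_ne (0 : V)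
    exact hv ((smul_eq_zero.mp (hV v)).resolve_left hunit)
  obtain ⟨P, hP, hle, hPd⟩ := Ideal.exists_le_prime_disjoint _ S hdisj
  refine ⟨σ₀.toRingHom, P, hσ₀, hP, fun t ht => ?_, le_antisymm (fun x hx => ?_) (fun x hx => hle (Ideal.mem_map_of_mem _ hx))⟩
  · by_contra h
    exact Set.disjoint_left.mp hPd ht (le_sup_left (a := Q.primeCompl) h)
  · by_contra h
    exact Set.disjoint_left.mp hPd hx (le_sup_right (a := Q.primeCompl) ⟨x, h, rfl⟩)

/-- `exists_prime_le_ker` in terms of morphisms of rings. -/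
theorem exists_pushout_prime {A A' B C : CommRingCat.{u}} [IsLocalRing A'] [IsLocalRing B] [IsLocalRing C]
    (a : A ⟶ A') (b : A ⟶ B) (α : A' ⟶ C) (β : B ⟶ C) [IsLocalHom α.hom] [IsLocalHom β.hom]
    (hc : a ≫ α = b ≫ β) (N : Type u) [AddCommGroup N] [Module B N] [Module.Finite B N] [Nontrivial N]
    (hflat : letI := Module.compHom N b.hom; Module.Flat A N) (p : Spec A') :
    ∃ (T : CommRingCat.{u}) (inl : A' ⟶ T) (inr : B ⟶ T) (σ : T ⟶ C) (P : Spec T),
      a ≫ inl = b ≫ inr ∧ inl ≫ σ = α ∧ inr ≫ σ = β ∧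
        P ⤳ (Spec.map σ).base (IsLocalRing.closedPoint C) ∧ (Spec.map inl).base P = p := by
  letI := a.hom.toAlgebra
  letI := b.hom.toAlgebra
  letI := Module.compHom N b.hom
  haveI : IsScalarTower A B N := IsScalarTower.of_algebraMap_smul fun _ _ => rfl
  haveI : Module.Flat A N := hflat
  obtain ⟨σ, P, hσ, hP, hle, hp⟩ :=
    exists_prime_le_ker (A := A) N α.hom β.hom (fun r => congr($(hc).hom r)) p.asIdeal
  refine ⟨CommRingCat.of (A' ⊗[A] B), CommRingCat.ofHom Algebra.TensorProduct.includeLeftRingHom,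
    CommRingCat.ofHom Algebra.TensorProduct.includeRight.toRingHom, CommRingCat.ofHom σ, ⟨P, hP⟩, ?_, ?_, ?_,
    (PrimeSpectrum.le_iff_specializes _ _).mp hle, PrimeSpectrum.ext hp⟩
  · exact CommRingCat.hom_ext Algebra.TensorProduct.includeLeftRingHom_comp_algebraMap
  · ext x
    simp [hσ]
  · ext x
    simp [hσ]

variable {X Y Y' : Scheme.{u}}

/-- The base change of a quasi-flat morphism is generalizing. -/
theorem generalizingMap_pullback_fst (f : X ⟶ Y) (g : Y' ⟶ Y) (hg : FDesc.IsQuasiFlat g) :
    GeneralizingMap (pullback.fst f g).base := by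
  intro z x' hx
  let fst := pullback.fst f g
  let snd := pullback.snd f g
  obtain ⟨M, hM, hflat, hne⟩ := hg
  haveI := hM.2
  let y' := snd.base z
  have hy : g.base y' = f.base (fst.base z) := congr($((pullback.condition (f := f) (g := g)).symm).base z)
  let ψ : Y.presheaf.stalk (g.base y') ⟶ X.presheaf.stalk (fst.base z) :=
    Y.presheaf.stalkSpecializes (specializes_of_eq hy.symm) ≫ f.stalkMap (fst.base z)
  haveI : Module.Finite (Y'.presheaf.stalk y') (M.presheaf.stalk y') := finite_stalk M y'
  haveI := hne y'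
  have hψ : ψ ≫ fst.stalkMap z = g.stalkMap y' ≫ snd.stalkMap z := by
    rw [Category.assoc, ← Scheme.Hom.stalkMap_comp, ← Scheme.Hom.stalkMap_comp,
      Scheme.Hom.stalkMap_congr_hom _ _ (pullback.condition (f := f) (g := g))]
    simp [fst, snd, y']
  have hx' : x' ∈ Set.range (X.fromSpecStalk (fst.base z)).base := by
    rw [Scheme.range_fromSpecStalk]; exact hx
  obtain ⟨p, rfl⟩ := hx'
  obtain ⟨T, inl, inr, σ, P, hw, hσl, hσr, hPle, hPp⟩ :=
    exists_pushout_prime ψ (g.stalkMap y') (fst.stalkMap z) (snd.stalkMap z) hψ (M.presheaf.stalk y') (hflat y') p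
  let Φ : Spec T ⟶ pullback f g := pullback.lift (Spec.map inl ≫ X.fromSpecStalk (fst.base z))
    (Spec.map inr ≫ Y'.fromSpecStalk y') (by
      have e : Spec.map ψ ≫ Y.fromSpecStalk (g.base y') = X.fromSpecStalk (fst.base z) ≫ f := by
        rw [Spec.map_comp, Category.assoc, Scheme.SpecMap_stalkSpecializes_fromSpecStalk,
          Scheme.SpecMap_stalkMap_fromSpecStalk]
      rw [Category.assoc, Category.assoc, ← e, ← Scheme.SpecMap_stalkMap_fromSpecStalk,
        ← Spec.map_comp_assoc, ← Spec.map_comp_assoc, hw])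
  have hΦ : Spec.map σ ≫ Φ = (pullback f g).fromSpecStalk z := by
    apply pullback.hom_ext
    · rw [Category.assoc, pullback.lift_fst, ← Spec.map_comp_assoc, ← Scheme.SpecMap_stalkMap_fromSpecStalk, hσl]
    · rw [Category.assoc, pullback.lift_snd, ← Spec.map_comp_assoc, ← Scheme.SpecMap_stalkMap_fromSpecStalk, hσr]
  refine ⟨Φ.base P, ?_, ?_⟩
  · have h2 : Φ.base ((Spec.map σ).base (IsLocalRing.closedPoint _)) = z := by
      rw [← Scheme.Hom.comp_apply, hΦ, Scheme.fromSpecStalk_closedPoint]
    exact h2 ▸ hPle.map Φ.continuous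
  · rw [← Scheme.Hom.comp_apply, pullback.lift_fst, Scheme.Hom.comp_apply, hPp]

end Groth.Agent.FDescent
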